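import Groth.Agent.FlatInter.Basic
import Groth.Agent.LocalCrit.Flatness
import Groth.Agent.ArtFunLib.Hull.Ring
import Groth.Agent.FlatInjDesc.Basic
import Groth.Agent.FlatPure.Model
import Groth.Agent.DevExist.Extend
import Groth.Agent.FlatStage.FlatBC
import Groth.Agent.FlatStage.Rebase
import Groth.Agent.FlatHens.Transfer
import Groth.Agent.FlatInj.Chain
import Groth.Agent.DevEtale.Local
import Mathlib

/-! The smallest ideal modulo which a module is flat along the closed fibre. -/

set_option autoImplicit false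
set_option backward.isDefEq.respectTransparency false
set_option backward.isDefEq.respectTransparency.types false
attribute [-instance] CategoryTheory.catToReflQuiver
set_option linter.style.haveILetI false

universe u

noncomputable section

open TensorProduct IsLocalRing

namespace Groth.Agent.FlatIdeal

/-- Flatness modulo `J` gives flatness over every algebra killed by `J`. -/
theorem flat_of_le_ker {R A L : Type u} [CommRing R] [CommRing A] [Algebra R A] [AddCommGroup L] [Module R L]
    (J : Ideal R) (hJ : J ≤ RingHom.ker (algebraMap R A)) [Module.Flat (R ⧸ J) ((R ⧸ J) ⊗[R] L)] :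
    Module.Flat A (A ⊗[R] L) := by
  letI : Algebra (R ⧸ J) A := (Ideal.Quotient.lift J (algebraMap R A) fun a ha => hJ ha).toAlgebra
  haveI : IsScalarTower R (R ⧸ J) A := IsScalarTower.of_algebraMap_eq fun _ => rfl
  exact Module.Flat.of_linearEquiv (AlgebraTensorModule.cancelBaseChange R (R ⧸ J) A A L).symm

set_option maxHeartbeats 800000 in
/-- The criterion of flatness by the infinitesimal neighbourhoods of the closed point. -/
theorem flat_of_forall_pow {R Sq A L : Type u} [CommRing R] [IsLocalRing R] [CommRing Sq] [IsNoetherianRing Sq]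
    [IsLocalRing Sq] [Algebra R Sq] [IsLocalHom (algebraMap R Sq)] [CommRing A] [IsNoetherianRing A] [IsLocalRing A]
    [Algebra R A] (hA : Function.Surjective (algebraMap R A))
    [AddCommGroup L] [Module Sq L] [Module R L] [IsScalarTower R Sq L] [Module.Finite Sq L]
    (h : ∀ n, Module.Flat (A ⧸ maximalIdeal A ^ n) ((A ⧸ maximalIdeal A ^ n) ⊗[R] L)) :
    Module.Flat A (A ⊗[R] L) := by
  obtain ⟨SA, NA, _, _, _, _, _, _, _, _, _, _, _, _, l, hp1, hp2, hl⟩ := FlatPure.exists_base_model R A Sq L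
  haveI := hp1; haveI := hp2
  haveI : Module.Finite SA NA := Module.Finite.equiv hl.equiv
  have hsurj : Function.Surjective (algebraMap Sq SA) := DevExist.surjective_of_isPushout R Sq A SA hA
  haveI : IsNoetherianRing SA := isNoetherianRing_of_surjective Sq SA (algebraMap Sq SA) hsurj
  let e : A ⊗[R] L ≃ₗ[A] NA := (Algebra.IsPushout.cancelBaseChange R A Sq SA L).symm.trans (hl.equiv.restrictScalars A)
  have hjac : (maximalIdeal A).map (algebraMap A SA) ≤ Ideal.jacobson ⊥ := by
    refine le_sInf fun Q hQ => ?_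
    haveI := hQ.2
    haveI : (Q.comap (algebraMap Sq SA)).IsMaximal := Ideal.comap_isMaximal_of_surjective _ hsurj
    rw [Ideal.map_le_iff_le_comap]
    intro a ha
    obtain ⟨r, rfl⟩ := hA a
    have hr : algebraMap R Sq r ∈ Q.comap (algebraMap Sq SA) := by
      rw [IsLocalRing.eq_maximalIdeal (I := Q.comap (algebraMap Sq SA)) inferInstance]
      refine fun hu => ha ?_
      exact ((isUnit_map_iff (algebraMap R Sq) r).1 hu).map _
    show algebraMap A SA (algebraMap R A r) ∈ Q
    rw [← IsScalarTower.algebraMap_apply, IsScalarTower.algebraMap_apply R Sq SA]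
    exact hr
  haveI : Module.Flat A NA := LocalCrit.flat_of_forall_quotient_pow (B := SA) (M := NA) (maximalIdeal A) hjac fun n => by
    haveI := h n
    haveI : Module.Flat (A ⧸ maximalIdeal A ^ n) ((A ⧸ maximalIdeal A ^ n) ⊗[A] NA) := Module.Flat.of_linearEquiv
      ((AlgebraTensorModule.congr (LinearEquiv.refl (A ⧸ maximalIdeal A ^ n) (A ⧸ maximalIdeal A ^ n)) e.symm).trans
        (AlgebraTensorModule.cancelBaseChange R A (A ⧸ maximalIdeal A ^ n) (A ⧸ maximalIdeal A ^ n) L))
    exact LocalCrit.keepsInjective_of_flat _ NA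
  exact Module.Flat.of_linearEquiv e

set_option maxHeartbeats 800000 in
/-- The base change of a localisation as a localisation of the base change. -/
theorem exists_local_model {R S Sq A S' M L M' : Type u} [CommRing R] [CommRing S] [CommRing Sq] [CommRing A]
    [CommRing S'] [Algebra R S] [Algebra S Sq] [Algebra R Sq] [IsScalarTower R S Sq] (W : Submonoid S)
    [IsLocalization W Sq] [Algebra R A] [Algebra S S'] [Algebra A S'] [Algebra R S'] [IsScalarTower R S S']
    [IsScalarTower R A S'] [Algebra.IsPushout R S A S']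
    [AddCommGroup M] [Module S M] [AddCommGroup L] [Module Sq L] [Module S L] [IsScalarTower S Sq L]
    [Module R L] [IsScalarTower R Sq L]
    (m : M →ₗ[S] L) (hm : IsBaseChange Sq m)
    [AddCommGroup M'] [Module S' M'] [Module A M'] [IsScalarTower A S' M'] [Module S M'] [IsScalarTower S S' M']
    (f : M →ₗ[S] M') (hf : IsBaseChange S' f) :
    ∃ (SA NA : Type u) (_ : CommRing SA) (_ : Algebra A SA) (_ : Algebra Sq SA) (_ : Algebra R SA)
      (_ : IsScalarTower R A SA) (_ : IsScalarTower R Sq SA) (_ : Algebra.IsPushout R A Sq SA) (_ : AddCommGroup NA)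
      (_ : Module SA NA) (_ : Module Sq NA) (_ : IsScalarTower Sq SA NA) (_ : Module A NA) (_ : IsScalarTower A SA NA)
      (l : L →ₗ[Sq] NA) (φ : S' →+* SA),
      IsBaseChange SA l ∧ Nonempty (A ⊗[R] L ≃ₗ[A] NA) ∧
      (∀ a, φ (algebraMap A S' a) = algebraMap A SA a) ∧
      (∀ s, φ (algebraMap S S' s) = algebraMap Sq SA (algebraMap S Sq s)) ∧
      (∀ (Q : Ideal SA) [Q.IsPrime], FlatCA.FlatAt A (Q.comap φ) M' ↔ FlatCA.FlatAt A Q NA) ∧
      ∀ (P : Ideal S') [P.IsPrime], (∀ w ∈ W, algebraMap S S' w ∉ P) → ∃ Q : Ideal SA, Q.IsPrime ∧ Q.comap φ = P := by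
  obtain ⟨SA, NA, _, _, _, _, _, _, _, _, _, _, _, _, l, hp1, hp2, hl⟩ := FlatPure.exists_base_model R A Sq L
  haveI := hp1; haveI := hp2
  letI : Algebra S SA := ((algebraMap Sq SA).comp (algebraMap S Sq)).toAlgebra
  haveI : IsScalarTower S Sq SA := IsScalarTower.of_algebraMap_eq' rfl
  haveI : IsScalarTower R S SA := IsScalarTower.of_algebraMap_eq fun r => by
    rw [IsScalarTower.algebraMap_apply S Sq SA, ← IsScalarTower.algebraMap_apply R S Sq,
      ← IsScalarTower.algebraMap_apply R Sq SA]
  let φ : S' →ₐ[R] SA := Algebra.pushoutDesc S' (IsScalarTower.toAlgHom R S SA) (IsScalarTower.toAlgHom R A SA)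
    fun _ _ => mul_comm _ _
  letI : Algebra S' SA := φ.toRingHom.toAlgebra
  haveI t1 : IsScalarTower A S' SA := IsScalarTower.of_algebraMap_eq fun a =>
    (Algebra.pushoutDesc_right S' (IsScalarTower.toAlgHom R S SA) (IsScalarTower.toAlgHom R A SA)
      (fun _ _ => mul_comm _ _) a).symm
  haveI t2 : IsScalarTower S S' SA := IsScalarTower.of_algebraMap_eq fun s =>
    (Algebra.pushoutDesc_left S' (IsScalarTower.toAlgHom R S SA) (IsScalarTower.toAlgHom R A SA)
      (fun _ _ => mul_comm _ _) s).symm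
  haveI : IsScalarTower R S' SA := IsScalarTower.of_algebraMap_eq fun r => (φ.commutes r).symm
  haveI hpo : Algebra.IsPushout S Sq S' SA := by
    have h1 : Algebra.IsPushout R Sq A SA := inferInstance
    exact (Algebra.IsPushout.comp_iff (R := R) (S := S) (R' := A) (S' := S') (T := Sq) (T' := SA)).1 h1
  haveI : Algebra.IsPushout S S' Sq SA := Algebra.IsPushout.symm hpo
  haveI : Module.Flat S Sq := IsLocalization.flat Sq W
  haveI : Module.Flat S' SA := Module.Flat.isBaseChange S S' Sq SA Algebra.IsPushout.out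
  letI : Module S NA := Module.compHom NA (algebraMap S SA)
  haveI : IsScalarTower S SA NA := IsScalarTower.of_algebraMap_smul fun _ _ => rfl
  haveI : IsScalarTower S Sq NA := IsScalarTower.to₁₂₄ S Sq SA NA
  letI : Module S' NA := Module.compHom NA (algebraMap S' SA)
  haveI : IsScalarTower S' SA NA := IsScalarTower.of_algebraMap_smul fun _ _ => rfl
  haveI : IsScalarTower S S' NA := IsScalarTower.to₁₂₄ S S' SA NA
  let b : M' →ₗ[S'] NA := hf.lift ((l.restrictScalars S).comp m)
  have hb : IsBaseChange SA b := IsBaseChange.of_comp hf (by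
    rw [show ((b.restrictScalars S) ∘ₗ f) = (l.restrictScalars S).comp m from LinearMap.ext fun n => hf.lift_eq _ n]
    exact hm.comp hl)
  refine ⟨SA, NA, inferInstance, inferInstance, inferInstance, inferInstance, inferInstance, inferInstance, hp1,
    inferInstance, inferInstance, inferInstance, inferInstance, inferInstance, inferInstance, l, algebraMap S' SA, hl,
    ⟨(Algebra.IsPushout.cancelBaseChange R A Sq SA L).symm.trans (hl.equiv.restrictScalars A)⟩,
    fun a => (IsScalarTower.algebraMap_apply A S' SA a).symm,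
    fun s => (IsScalarTower.algebraMap_apply S S' SA s).symm.trans (IsScalarTower.algebraMap_apply S Sq SA s),
    fun Q _ => ?_, fun P _ hP => ?_⟩
  · haveI : (Q.comap (algebraMap S' SA)).IsPrime := Ideal.IsPrime.comap _
    haveI : Q.LiesOver (Q.comap (algebraMap S' SA)) := ⟨rfl⟩
    exact DevEtale.flatAt_iff_of_flat A b hb (Q.comap (algebraMap S' SA)) Q
  · haveI : (P.comap (algebraMap S S')).IsPrime := Ideal.IsPrime.comap _
    have hdisj : Disjoint (W : Set S) (P.comap (algebraMap S S') : Set S) :=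
      Set.disjoint_left.2 fun w hw h => hP w hw h
    let z : Ideal Sq := (P.comap (algebraMap S S')).map (algebraMap S Sq)
    haveI : z.IsPrime := IsLocalization.isPrime_of_isPrime_disjoint W Sq _ inferInstance hdisj
    obtain ⟨Q, hQ, hQP, -⟩ := FlatHens.exists_prime_pair (R := S) (S := S') (T := Sq) (U := SA) P z
      (IsLocalization.comap_map_of_isPrime_disjoint W Sq inferInstance hdisj).symm
    exact ⟨Q, hQ, hQP⟩

variable {R S : Type u} [CommRing R] [IsLocalRing R] [CommRing S] [Algebra R S]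

/-- The ideals modulo which the module is flat along the closed fibre. -/
def Good (M : Type u) [AddCommGroup M] [Module S M] [Module R M] [IsScalarTower R S M] (J : Ideal R) : Prop :=
  ∀ (q : Ideal S) [q.IsPrime], q.comap (algebraMap R S) = maximalIdeal R →
    Module.Flat (R ⧸ J) ((R ⧸ J) ⊗[R] LocalizedModule q.primeCompl M)

set_option maxHeartbeats 800000 in
/-- The smallest ideal modulo which the module is flat along the closed fibre. -/
theorem exists_least [IsNoetherianRing R] [IsAdicComplete (maximalIdeal R) R] [IsNoetherianRing S]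
    (M : Type u) [AddCommGroup M] [Module S M] [Module R M] [IsScalarTower R S M] [Module.Finite S M] :
    ∃ I : Ideal R, I ≤ maximalIdeal R ∧ Good (S := S) M I ∧ ∀ J : Ideal R, Good (S := S) M J → I ≤ J := by
  classical
  have hm : Good (S := S) M (maximalIdeal R) := fun q _ _ => by
    letI := Ideal.Quotient.field (maximalIdeal R)
    infer_instance
  have hinf : ∀ J₁ J₂, Good (S := S) M J₁ → Good (S := S) M J₂ → Good (S := S) M (J₁ ⊓ J₂) := fun J₁ J₂ h₁ h₂ q _ hq => by
    haveI := h₁ q hq; haveI := h₂ q hq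
    exact FlatInter.flat_inf (R := R) (LocalizedModule q.primeCompl M) J₁ J₂
  have hmin : ∀ N : ℕ, ∃ J, Good (S := S) M J ∧ ∀ J', Good (S := S) M J' → J ⊔ maximalIdeal R ^ N ≤ J' ⊔ maximalIdeal R ^ N := by
    intro N
    haveI := ArtFunLib.Hull.isArtinianRing_quotient_pow (maximalIdeal R) N
    let 𝒯 : Set (Ideal (R ⧸ maximalIdeal R ^ N)) :=
      (fun J => J.map (Ideal.Quotient.mk (maximalIdeal R ^ N))) '' {J | Good (S := S) M J}
    obtain ⟨_, ⟨J, hJ, rfl⟩, hleast⟩ := IsArtinian.set_has_minimal 𝒯 ⟨_, maximalIdeal R, hm, rfl⟩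
    refine ⟨J, hJ, fun J' hJ' => ?_⟩
    have hle : (J ⊓ J').map (Ideal.Quotient.mk (maximalIdeal R ^ N)) ≤ J.map (Ideal.Quotient.mk _) :=
      Ideal.map_mono inf_le_left
    have heq : (J ⊓ J').map (Ideal.Quotient.mk (maximalIdeal R ^ N)) = J.map (Ideal.Quotient.mk _) := by
      by_contra hne
      exact hleast _ ⟨J ⊓ J', hinf J J' hJ hJ', rfl⟩ (lt_of_le_of_ne hle hne)
    have h1 := congrArg (Ideal.comap (Ideal.Quotient.mk (maximalIdeal R ^ N))) heq
    rw [Ideal.comap_map_of_surjective _ Ideal.Quotient.mk_surjective,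
      Ideal.comap_map_of_surjective _ Ideal.Quotient.mk_surjective, ← RingHom.ker_eq_comap_bot, Ideal.mk_ker] at h1
    rw [← h1]
    exact sup_le_sup_right inf_le_right _
  choose Jn hJn hJmin using hmin
  let I : Ideal R := sInf {J | Good (S := S) M J}
  let K : ℕ → Ideal R := fun n => Jn n ⊔ maximalIdeal R ^ n
  have hanti : ∀ {a b}, a ≤ b → K b ≤ K a := fun {a b} hab =>
    (hJmin b (Jn a) (hJn a)).trans (sup_le_sup_left (Ideal.pow_le_pow_right hab) _)
  have hK : (⨅ n, K n) ≤ I := by
    refine le_sInf fun J hJ x hx => ?_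
    rw [← Ideal.Quotient.eq_zero_iff_mem]
    rcases eq_or_ne J ⊤ with rfl | hJtop
    · exact Ideal.Quotient.eq_zero_iff_mem.2 trivial
    haveI : Nontrivial (R ⧸ J) := Ideal.Quotient.nontrivial_iff.2 hJtop
    haveI : IsLocalRing (R ⧸ J) := IsLocalRing.of_surjective' _ Ideal.Quotient.mk_surjective
    have h0 : Ideal.Quotient.mk J x ∈ ⨅ n : ℕ, maximalIdeal (R ⧸ J) ^ n := Ideal.mem_iInf.2 fun n => by
      obtain ⟨a, ha, b, hb, rfl⟩ := Submodule.mem_sup.1
        ((hJmin n J hJ) (Ideal.mem_iInf.1 hx n))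
      rw [map_add, Ideal.Quotient.eq_zero_iff_mem.2 ha, zero_add]
      have := Ideal.mem_map_of_mem (Ideal.Quotient.mk J) hb
      rw [Ideal.map_pow] at this
      refine Ideal.pow_right_mono ?_ n this
      rw [Ideal.map_le_iff_le_comap]
      exact (IsLocalRing.eq_maximalIdeal (Ideal.comap_isMaximal_of_surjective (K := maximalIdeal (R ⧸ J))
        (Ideal.Quotient.mk J) Ideal.Quotient.mk_surjective)).symm.le
    rw [Ideal.iInf_pow_eq_bot_of_isLocalRing _ (maximalIdeal.isMaximal _).ne_top] at h0
    exact h0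
  have hIm : I ≤ maximalIdeal R := sInf_le hm
  refine ⟨I, hIm, fun q _ hq => ?_, fun J hJ => sInf_le hJ⟩
  haveI : Nontrivial (R ⧸ I) := Ideal.Quotient.nontrivial_iff.2 fun hI =>
    (maximalIdeal.isMaximal R).ne_top (top_le_iff.1 (hI ▸ hIm))
  haveI : IsLocalRing (R ⧸ I) := IsLocalRing.of_surjective' _ Ideal.Quotient.mk_surjective
  let Sq := Localization.AtPrime q
  haveI : IsLocalHom (algebraMap R Sq) := ⟨fun r hr => by
    by_contra hru
    have h1 : algebraMap R S r ∈ q := by
      have h2 : r ∈ q.comap (algebraMap R S) := hq ▸ (mem_maximalIdeal r).2 hru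
      exact h2
    rw [IsScalarTower.algebraMap_apply R S Sq] at hr
    exact (IsLocalization.AtPrime.isUnit_to_map_iff Sq q (algebraMap R S r)).1 hr h1⟩
  haveI : IsNoetherianRing Sq := IsLocalization.isNoetherianRing q.primeCompl Sq inferInstance
  refine flat_of_forall_pow (Sq := Sq) (A := R ⧸ I) (L := LocalizedModule q.primeCompl M)
    Ideal.Quotient.mk_surjective fun n => ?_
  obtain ⟨q₀, hq₀⟩ := ArtFunLib.Hull.chevalley (maximalIdeal R) K hanti (fun a => ⟨a, le_sup_right⟩) n
  have hJI : Jn q₀ ≤ I ⊔ maximalIdeal R ^ n := le_sup_left.trans (hq₀.trans (sup_le_sup_right hK _))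
  haveI := hJn q₀ q hq
  refine flat_of_le_ker (Jn q₀) (hJI.trans (sup_le ?_ ?_))
  · intro a ha
    show Ideal.Quotient.mk _ (Ideal.Quotient.mk I a) = 0
    rw [Ideal.Quotient.eq_zero_iff_mem.2 ha, map_zero]
  · intro a ha
    show Ideal.Quotient.mk _ (Ideal.Quotient.mk I a) = 0
    rw [Ideal.Quotient.eq_zero_iff_mem]
    have := Ideal.mem_map_of_mem (Ideal.Quotient.mk I) ha
    rw [Ideal.map_pow] at this
    refine Ideal.pow_right_mono (Ideal.map_le_iff_le_comap.2 ?_) n this
    exact (IsLocalRing.eq_maximalIdeal (Ideal.comap_isMaximal_of_surjective (K := maximalIdeal (R ⧸ I))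
      (Ideal.Quotient.mk I) Ideal.Quotient.mk_surjective)).symm.le

variable {R' S' : Type u} [CommRing R'] [IsLocalRing R'] [CommRing S'] [Algebra R R'] [IsLocalHom (algebraMap R R')]
  [Algebra S S'] [Algebra R' S'] [Algebra R S'] [IsScalarTower R S S'] [IsScalarTower R R' S']
  [Algebra.IsPushout R S R' S'] {M M' : Type u} [AddCommGroup M] [Module S M] [Module R M] [IsScalarTower R S M]
  [AddCommGroup M'] [Module S' M'] [Module R' M'] [IsScalarTower R' S' M'] [Module S M'] [IsScalarTower S S' M']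

set_option maxHeartbeats 800000 in
theorem flatAt_of_le_ker (f : M →ₗ[S] M') (hf : IsBaseChange S' f) {I : Ideal R} (hI : Good (S := S) M I)
    (hle : I ≤ RingHom.ker (algebraMap R R')) (q' : Ideal S') [q'.IsPrime]
    (hq' : q'.comap (algebraMap R' S') = maximalIdeal R') : FlatCA.FlatAt R' q' M' := by
  let q : Ideal S := q'.comap (algebraMap S S')
  have hq : q.comap (algebraMap R S) = maximalIdeal R := by
    rw [Ideal.comap_comap, ← IsScalarTower.algebraMap_eq, IsScalarTower.algebraMap_eq R R' S', ← Ideal.comap_comap,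
      hq', IsLocalRing.maximalIdeal_comap]
  let Sq := Localization.AtPrime q
  let L := LocalizedModule q.primeCompl M
  have hm : IsBaseChange Sq (LocalizedModule.mkLinearMap q.primeCompl M) :=
    (isLocalizedModule_iff_isBaseChange q.primeCompl Sq _).1 inferInstance
  obtain ⟨SA, NA, _, _, _, _, _, _, _, _, _, _, _, _, _, l, φ, hl, ⟨e⟩, -, -, hiff, hlift⟩ :=
    exists_local_model (R := R) (A := R') q.primeCompl (LocalizedModule.mkLinearMap q.primeCompl M) hm f hf
  haveI := hI q hq
  haveI : Module.Flat R' (R' ⊗[R] L) := flat_of_le_ker I hle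
  haveI : Module.Flat R' NA := Module.Flat.of_linearEquiv e.symm
  obtain ⟨Q, hQ, hQq⟩ := hlift q' fun w hw => hw
  haveI := hQ
  subst hQq
  exact (hiff Q).2 (FlatInj.flat_localizedModule Q.primeCompl)

set_option maxHeartbeats 800000 in
theorem le_ker_of_flatAt [IsNoetherianRing R] [IsNoetherianRing R'] (f : M →ₗ[S] M') (hf : IsBaseChange S' f)
    {I : Ideal R} (hmin : ∀ J : Ideal R, Good (S := S) M J → I ≤ J)
    (h : ∀ (q' : Ideal S') [q'.IsPrime], q'.comap (algebraMap R' S') = maximalIdeal R' → FlatCA.FlatAt R' q' M') :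
    I ≤ RingHom.ker (algebraMap R R') := by
  suffices key : ∀ n : ℕ, I ≤ RingHom.ker (algebraMap R (R' ⧸ maximalIdeal R' ^ (n + 1))) by
    intro a ha
    have h0 : algebraMap R R' a ∈ ⨅ n : ℕ, maximalIdeal R' ^ n := Ideal.mem_iInf.2 fun n =>
      Ideal.pow_le_pow_right (Nat.le_succ n) (Ideal.Quotient.eq_zero_iff_mem.1 (key n ha))
    rw [Ideal.iInf_pow_eq_bot_of_isLocalRing _ (maximalIdeal.isMaximal _).ne_top] at h0
    exact h0
  intro n
  let A := R' ⧸ maximalIdeal R' ^ (n + 1)
  refine hmin _ fun q _ hq => ?_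
  let K : Ideal R := RingHom.ker (algebraMap R A)
  let L := LocalizedModule q.primeCompl M
  let Sq := Localization.AtPrime q
  have hm : IsBaseChange Sq (LocalizedModule.mkLinearMap q.primeCompl M) :=
    (isLocalizedModule_iff_isBaseChange q.primeCompl Sq _).1 inferInstance
  obtain ⟨SB, NB, _, _, _, _, _, _, _, _, _, _, _, _, _, l, φ, hl, -, hφA, -, hiff, -⟩ :=
    exists_local_model (R := R) (A := R') q.primeCompl (LocalizedModule.mkLinearMap q.primeCompl M) hm f hf
  obtain ⟨SA, NA, _, _, _, _, _, _, _, _, _, _, _, _, l₂, hp1, hp2, hl₂⟩ := FlatPure.exists_base_model R A Sq L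
  haveI := hp1; haveI := hp2
  letI : Algebra R' SA := ((algebraMap A SA).comp (algebraMap R' A)).toAlgebra
  haveI : IsScalarTower R' A SA := IsScalarTower.of_algebraMap_eq' rfl
  obtain ⟨_, _, _, hpo, hpo', _, _, b, hb⟩ := FlatStage.rebase l hl l₂ hl₂ (C := R) (C₁ := R') (C₂ := A)
  haveI := hpo; haveI := hpo'
  haveI : Module.Flat A NA := by
    refine Module.flat_of_isLocalized_maximal (R := A) SA NA (fun Q _ => LocalizedModule Q.primeCompl NA)
      (fun Q _ => LocalizedModule.mkLinearMap Q.primeCompl NA) fun Q _ => ?_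
    haveI : (Q.comap (algebraMap SB SA)).IsPrime := Ideal.IsPrime.comap _
    refine FlatStage.flatAt_baseChange b hb Q ((hiff (Q.comap (algebraMap SB SA))).1 (h _ ?_))
    refine le_antisymm (IsLocalRing.le_maximalIdeal (Ideal.IsPrime.ne_top inferInstance)) fun a ha => ?_
    show algebraMap SB SA (φ (algebraMap R' S' a)) ∈ Q
    rw [hφA, ← IsScalarTower.algebraMap_apply R' SB SA, IsScalarTower.algebraMap_apply R' A SA]
    refine Ideal.IsPrime.mem_of_pow_mem inferInstance (n + 1) ?_
    rw [← map_pow, ← map_pow, show algebraMap R' A (a ^ (n + 1)) = 0 from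
      Ideal.Quotient.eq_zero_iff_mem.2 (Ideal.pow_mem_pow ha (n + 1)), map_zero]
    exact Q.zero_mem
  let e : A ⊗[R] L ≃ₗ[A] NA := (Algebra.IsPushout.cancelBaseChange R A Sq SA L).symm.trans (hl₂.equiv.restrictScalars A)
  letI : Algebra (R ⧸ K) A := (RingHom.kerLift (algebraMap R A)).toAlgebra
  haveI : IsScalarTower R (R ⧸ K) A := IsScalarTower.of_algebraMap_eq fun _ => rfl
  haveI : Module.Flat A (A ⊗[R] L) := Module.Flat.of_linearEquiv e
  haveI : Module.Flat A (A ⊗[R ⧸ K] ((R ⧸ K) ⊗[R] L)) :=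
    Module.Flat.of_linearEquiv (AlgebraTensorModule.cancelBaseChange R (R ⧸ K) A A L)
  haveI : ((maximalIdeal R).map (Ideal.Quotient.mk K)).IsMaximal := by
    refine Ideal.IsMaximal.map_of_surjective_of_ker_le Ideal.Quotient.mk_surjective ?_
    rw [Ideal.mk_ker]
    intro a ha
    by_contra hu
    rw [mem_maximalIdeal, mem_nonunits_iff, not_not] at hu
    have h1 : IsUnit (algebraMap R A a) := hu.map _
    rw [RingHom.mem_ker.1 ha] at h1
    exact (maximalIdeal.isMaximal R').ne_top (top_le_iff.1 ((le_of_eq (Ideal.Quotient.zero_eq_one_iff.1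
      (isUnit_zero_iff.1 h1)).symm).trans (Ideal.pow_le_self n.succ_ne_zero)))
  refine FlatInjDesc.flat_of_injective (A' := A) (RingHom.kerLift_injective _)
    ((maximalIdeal R).map (Ideal.Quotient.mk K)) ⟨n + 1, ?_⟩ _
  rw [← Ideal.map_pow, Ideal.zero_eq_bot, Ideal.map_eq_bot_iff_le_ker, Ideal.mk_ker]
  intro a ha
  show algebraMap R A a = 0
  rw [IsScalarTower.algebraMap_apply R R' A]
  refine Ideal.Quotient.eq_zero_iff_mem.2 ?_
  have := Ideal.mem_map_of_mem (algebraMap R R') ha
  rw [Ideal.map_pow] at this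
  refine Ideal.pow_right_mono ?_ _ this
  rw [Ideal.map_le_iff_le_comap, IsLocalRing.maximalIdeal_comap]

end Groth.Agent.FlatIdeal
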