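import Groth.Prelude.Def_FlatCA
import Mathlib

/-! A local algebra is a directed union of essentially finite type local subalgebras. -/

set_option autoImplicit false
set_option linter.style.haveILetI false

universe u

noncomputable section

open IsLocalRing

namespace Groth.Agent.FlatIdeal

variable {R R' : Type u} [CommRing R] [CommRing R'] [Algebra R R']

/-- The elements of `R'` which are fractions of elements of `C` with invertible denominator. -/
def fracSub (C : Subalgebra R R') : Subalgebra R R' where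
  carrier := {x | ∃ b ∈ C, IsUnit b ∧ x * b ∈ C}
  zero_mem' := ⟨1, one_mem C, isUnit_one, by simp [zero_mem]⟩
  one_mem' := ⟨1, one_mem C, isUnit_one, by simp [one_mem]⟩
  algebraMap_mem' r := ⟨1, one_mem C, isUnit_one, by rw [mul_one]; exact C.algebraMap_mem r⟩
  add_mem' := by
    rintro x y ⟨b, hb, hub, hx⟩ ⟨c, hc, huc, hy⟩
    refine ⟨b * c, mul_mem hb hc, hub.mul huc, ?_⟩
    have : (x + y) * (b * c) = x * b * c + y * c * b := by ring
    rw [this]
    exact add_mem (mul_mem hx hc) (mul_mem hy hb)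
  mul_mem' := by
    rintro x y ⟨b, hb, hub, hx⟩ ⟨c, hc, huc, hy⟩
    refine ⟨b * c, mul_mem hb hc, hub.mul huc, ?_⟩
    have : x * y * (b * c) = x * b * (y * c) := by ring
    rw [this]
    exact mul_mem hx hy

theorem le_fracSub (C : Subalgebra R R') : C ≤ fracSub C :=
  fun x hx => ⟨1, one_mem C, isUnit_one, by rwa [mul_one]⟩

theorem fracSub_mono {C D : Subalgebra R R'} (h : C ≤ D) : fracSub C ≤ fracSub D :=
  fun _ ⟨b, hb, hub, hx⟩ => ⟨b, h hb, hub, h hx⟩

theorem isUnit_fracSub {C : Subalgebra R R'} (x : fracSub C) (hx : IsUnit (x : R')) : IsUnit x := by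
  obtain ⟨b, hb, hub, hxb⟩ := x.2
  obtain ⟨u, hu⟩ := hx
  refine isUnit_iff_exists_inv.2 ⟨⟨↑u⁻¹, (x : R') * b, hxb, (hu ▸ u.isUnit).mul hub, ?_⟩, Subtype.ext ?_⟩
  · rw [← hu, ← mul_assoc, Units.inv_mul, one_mul]
    exact hb
  · show (x : R') * ↑u⁻¹ = 1
    rw [← hu, Units.mul_inv]

variable [IsLocalRing R']

theorem exists_stage [IsNoetherianRing R] [IsLocalRing R] [IsLocalHom (algebraMap R R')] (s : Finset R') :
    IsNoetherianRing (fracSub (Algebra.adjoin R (s : Set R'))) ∧
      ∃ _ : IsLocalRing (fracSub (Algebra.adjoin R (s : Set R'))),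
        IsLocalHom (algebraMap R (fracSub (Algebra.adjoin R (s : Set R')))) := by
  let C := Algebra.adjoin R (s : Set R')
  let F := fracSub C
  letI : Algebra C F := (Subalgebra.inclusion (le_fracSub C)).toRingHom.toAlgebra
  let W : Submonoid C := Submonoid.comap C.val.toRingHom.toMonoidHom (IsUnit.submonoid R')
  haveI : IsLocalization W F :=
    { map_units := fun y => isUnit_fracSub _ y.2
      surj := fun x => by
        obtain ⟨b, hb, hub, hxb⟩ := x.2
        exact ⟨(⟨_, hxb⟩, ⟨⟨b, hb⟩, hub⟩), Subtype.ext rfl⟩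
      exists_of_eq := fun {x y} h => ⟨1, by rw [show x = y from Subtype.ext (congrArg (fun z : F => (z : R')) h :)]⟩ }
  haveI : Algebra.FiniteType R C := Algebra.FiniteType.adjoin_of_finite s.finite_toSet
  haveI : IsNoetherianRing C := Algebra.FiniteType.isNoetherianRing R C
  haveI : Nontrivial F := ⟨⟨0, 1, fun h => zero_ne_one (congrArg Subtype.val h)⟩⟩
  haveI : IsLocalRing F := IsLocalRing.of_nonunits_add fun x y hx hy => by
    rw [mem_nonunits_iff] at hx hy ⊢
    intro h
    have hx' : (x : R') ∈ maximalIdeal R' := fun hu => hx (isUnit_fracSub x hu)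
    have hy' : (y : R') ∈ maximalIdeal R' := fun hu => hy (isUnit_fracSub y hu)
    exact (mem_maximalIdeal _).1 ((maximalIdeal R').add_mem hx' hy') (h.map F.val)
  exact ⟨IsLocalization.isNoetherianRing W F inferInstance, inferInstance,
    ⟨fun r hr => (isUnit_map_iff (algebraMap R R') r).1 (hr.map F.val)⟩⟩

omit [IsLocalRing R'] in
/-- A directed covering family of subalgebras is a directed colimit. -/
theorem colim_of_subalgebras {ι : Type u} [Preorder ι] [IsDirected ι (· ≤ ·)] [Nonempty ι]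
    (F : ι → Subalgebra R R') (hmono : ∀ i j, i ≤ j → F i ≤ F j) (hcover : ∀ a, ∃ i, a ∈ F i) :
    (∀ i j (h : i ≤ j), (Subalgebra.inclusion (hmono i j h)).toRingHom.comp (algebraMap R (F i)) =
      algebraMap R (F j)) ∧
    FlatCA.IsDirectedColimitRing (fun i => F i) (fun i j h => (Subalgebra.inclusion (hmono i j h)).toRingHom) R' :=
  ⟨fun _ _ _ => RingHom.ext fun _ => Subtype.ext rfl, inferInstance, inferInstance,
    fun _ => RingHom.ext fun _ => Subtype.ext rfl, fun _ _ _ _ _ => RingHom.ext fun _ => Subtype.ext rfl,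
    fun _ _ _ => RingHom.ext fun _ => rfl,
    fun a => (hcover a).elim fun i hi => ⟨i, ⟨a, hi⟩, rfl⟩,
    fun i x hx => ⟨i, le_rfl, Subtype.ext hx⟩⟩

/-- The family of local stages. -/
theorem exists_system [IsNoetherianRing R] [IsLocalRing R] [IsLocalHom (algebraMap R R')] :
    ∃ (F : Finset R' → Subalgebra R R'), (∀ s t, s ≤ t → F s ≤ F t) ∧ (∀ a, ∃ s, a ∈ F s) ∧
      ∀ s, IsNoetherianRing (F s) ∧ (∀ x : F s, IsUnit (x : R') → IsUnit x) ∧
        ∃ _ : IsLocalRing (F s), IsLocalHom (algebraMap R (F s)) :=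
  ⟨fun s => fracSub (Algebra.adjoin R (s : Set R')),
    fun _ _ h => fracSub_mono (Algebra.adjoin_mono (Finset.coe_subset.mpr h)),
    fun a => ⟨{a}, le_fracSub _ (Algebra.subset_adjoin (Finset.mem_coe.2 (Finset.mem_singleton_self a)))⟩,
    fun s => ⟨(exists_stage s).1, isUnit_fracSub, (exists_stage s).2⟩⟩

end Groth.Agent.FlatIdeal
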